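import Groth.Agent.ModModel.Basic

/-!
# Finitely presented modules descend to finitely generated ℤ-algebras
-/

set_option autoImplicit false

universe u

open TensorProduct

namespace Groth.Agent.ModModelScheme

variable {R S : Type u} [CommRing R] [CommRing S] [Algebra R S]
  {M : Type u} [AddCommGroup M] [Module S M]

/-- The descent of a finitely presented module (after `ModModel.exists_model`, without flatness). -/
theorem exists_model_fp [Algebra.FinitePresentation R S] [Module.FinitePresentation S M] :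
    ∃ (R₀ : Type u) (_ : CommRing R₀) (_ : Algebra R₀ R) (S₀ : Type u) (_ : CommRing S₀)
      (_ : Algebra R₀ S₀) (_ : Algebra S₀ S) (_ : Algebra R₀ S) (_ : IsScalarTower R₀ R S)
      (_ : IsScalarTower R₀ S₀ S) (M₀ : Type u) (_ : AddCommGroup M₀) (_ : Module S₀ M₀)
      (_ : Module R₀ M₀) (_ : IsScalarTower R₀ S₀ M₀) (_ : Module S₀ M) (_ : IsScalarTower S₀ S M)
      (f : M₀ →ₗ[S₀] M),
      Algebra.FiniteType ℤ R₀ ∧ Algebra.FiniteType R₀ S₀ ∧ Module.Finite S₀ M₀ ∧
        Algebra.IsPushout R₀ R S₀ S ∧ IsBaseChange S f := by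
  classical
  let P := Algebra.Presentation.ofFinitePresentation R S
  let A₀ : Subalgebra ℤ R := Algebra.adjoin ℤ P.coeffs
  have : P.HasCoeffs A₀ := ⟨by simp [A₀, Subalgebra.algebraMap_eq]⟩
  have : Algebra.FiniteType ℤ A₀ := Algebra.FiniteType.adjoin_of_finite P.finite_coeffs
  let S' := P.ModelOfHasCoeffs A₀
  let e₀ : R ⊗[A₀] S' ≃ₐ[R] S := P.tensorModelOfHasCoeffsEquiv A₀
  obtain ⟨a, K, e, ⟨ks, hks⟩⟩ := Module.FinitePresentation.exists_fin S M
  obtain ⟨A, hA, hmem⟩ := FlatMorLib.Approx.exists_fg_finset_subset (R := A₀) (A := R) (D := S')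
    (ks.biUnion fun k => Finset.univ.image fun i => e₀.symm (k i))
  have : Algebra.FiniteType A₀ A := A.fg_iff_finiteType.mp hA
  have : Algebra.FiniteType ℤ A := Algebra.FiniteType.trans (S := A₀) inferInstance this
  let S₁ := A ⊗[A₀] S'
  let φ : S₁ →+* S := e₀.toRingEquiv.toRingHom.comp (FlatMorLib.Approx.valT S' A).toRingHom
  let _ : Algebra S₁ S := φ.toAlgebra
  have : IsScalarTower A S₁ S := IsScalarTower.of_algebraMap_eq (R := A) (S := S₁) (A := S) fun x => by
    change algebraMap R S (x : R) = e₀ (FlatMorLib.Approx.valT S' A (x ⊗ₜ 1))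
    rw [← e₀.commutes, Algebra.TensorProduct.map_tmul, Algebra.TensorProduct.algebraMap_apply]
    simp
  let _ : Algebra S' S :=
    (e₀.toRingEquiv.toRingHom.comp Algebra.TensorProduct.includeRight.toRingHom).toAlgebra
  have : IsScalarTower A₀ A S :=
    IsScalarTower.of_algebraMap_eq (R := A₀) (S := A) fun x => rfl
  have : IsScalarTower A₀ S' S := IsScalarTower.of_algebraMap_eq (R := A₀) (S := S') (A := S) fun x => by
    change algebraMap R S (x : R) = e₀ (1 ⊗ₜ algebraMap A₀ S' x)
    rw [← e₀.commutes]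
    congr 1
    exact ((Algebra.TensorProduct.includeRight (R := A₀) (A := R) (B := S')).commutes x).symm
  let _ : Algebra S' S₁ := Algebra.TensorProduct.rightAlgebra
  have : IsScalarTower S' S₁ S := IsScalarTower.of_algebraMap_eq (R := S') (S := S₁) (A := S) fun x => by
    change e₀ (1 ⊗ₜ x) = e₀ (FlatMorLib.Approx.valT S' A (1 ⊗ₜ x))
    simp
  have : IsScalarTower A₀ S₁ S := IsScalarTower.of_algebraMap_eq (R := A₀) (S := S₁) (A := S) fun x => by
    rw [IsScalarTower.algebraMap_apply A₀ A S₁, ← IsScalarTower.algebraMap_apply A S₁ S,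
      ← IsScalarTower.algebraMap_apply A₀ A S]
  have hR : Algebra.IsPushout A₀ R S' S :=
    let _ : Algebra S' (R ⊗[A₀] S') := Algebra.TensorProduct.rightAlgebra
    Algebra.IsPushout.of_equiv (h := TensorProduct.isPushout (R := A₀) (S := R) (T := S')) e₀ rfl
  have hpo : Algebra.IsPushout A R S₁ S := (Algebra.IsPushout.comp_iff A₀ A S' S₁).mp hR
  let _ : CommRing S₁ := inferInstance
  have hrange : ∀ k ∈ ks, ∀ i, ∃ y : S₁, algebraMap S₁ S y = k i := fun k hk i => by
    obtain ⟨y, hy⟩ := hmem (e₀.symm (k i))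
      (Finset.mem_biUnion.2 ⟨k, hk, Finset.mem_image.2 ⟨i, Finset.mem_univ _, rfl⟩⟩)
    refine ⟨y, ?_⟩
    rw [show algebraMap S₁ S y = φ y from rfl]
    change e₀ (FlatMorLib.Approx.valT S' A y) = k i
    rw [show FlatMorLib.Approx.valT S' A y = e₀.symm (k i) from hy, AlgEquiv.apply_symm_apply]
  let _ : Module S₁ M := Module.compHom M φ
  have : IsScalarTower S₁ S M := IsScalarTower.of_algebraMap_smul fun _ _ => rfl
  obtain ⟨M₁, _, _, f₁, _, hf₁⟩ := ModModel.exists_module_model S₁ e ks hks hrange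
  let _ : Module A M₁ := Module.compHom M₁ (algebraMap A S₁)
  have : IsScalarTower A S₁ M₁ := ⟨fun a s m => by
    show (a • s) • m = algebraMap A S₁ a • (s • m)
    rw [← mul_smul, ← Algebra.smul_def]⟩
  exact ⟨A, inferInstance, inferInstance, S₁, inferInstance, inferInstance, inferInstance, inferInstance,
    inferInstance, inferInstance, M₁, inferInstance, inferInstance, inferInstance, inferInstance,
    inferInstance, inferInstance, f₁, inferInstance, inferInstance, inferInstance, hpo, hf₁⟩

end Groth.Agent.ModModelScheme
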