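import Groth.Agent.ModModelScheme.Algebra
import Groth.Agent.QCohAffine.PullTilde
import Groth.Agent.QCohBase.FPSections
import Groth.Agent.QCohBase.CohRestrict
import Groth.Agent.FlatOver.Basic
import Groth.Agent.FlatOverBC.Free

/-!
# Models of quasi-coherent modules on affine schemes over finitely generated ℤ-algebras
-/

set_option autoImplicit false

universe u

open CategoryTheory CategoryTheory.Limits AlgebraicGeometry TopologicalSpace Opposite
open scoped TensorProduct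

namespace Groth.Agent.ModModelScheme

/-- A finitely presented quasi-coherent module on an affine scheme has finitely presented sections. -/
theorem finitePresentation_sections {X : Scheme.{u}} [IsAffine X] (F : X.Modules) [F.IsQuasicoherent]
    (hF : CohB1.IsFP F) : Module.FinitePresentation Γ(X, ⊤) Γ(F, ⊤) := by
  classical
  have hU : IsAffineOpen (⊤ : X.Opens) := isAffineOpen_top X
  have : SheafOfModules.IsFinitePresentation (R := X.ringCatSheaf) F := hF
  have hfin : Module.Finite Γ(X, ⊤) Γ(F, ⊤) :=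
    QCohBase.finite_sections F inferInstance hU
  have key : ∀ x : X, ∃ r : Γ(X, ⊤), x ∈ X.basicOpen r ∧
      Module.FinitePresentation Γ(X, X.basicOpen r) Γ(F, X.basicOpen r) := fun x => by
    obtain ⟨W, hxW, hW⟩ := QCohBase.exists_affine_finitePresentation F hF x
    obtain ⟨r, hr, hxr⟩ := hU.exists_basicOpen_le ⟨x, hxW⟩ trivial
    exact ⟨r, hxr, hW _ (hU.basicOpen r) hr⟩
  choose r hxr hfp using key
  have hspan : Ideal.span (Set.range r) = ⊤ := hU.self_le_iSup_basicOpen_iff.1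
    fun x _ => Opens.mem_iSup.2 ⟨⟨r x, x, rfl⟩, hxr x⟩
  obtain ⟨n, π, hπ⟩ := Module.Finite.exists_fin' Γ(X, ⊤) Γ(F, ⊤)
  refine Module.finitePresentation_of_surjective π hπ ?_
  let _ : ∀ g : Set.range r, Algebra Γ(X, ⊤) Γ(X, X.basicOpen g.1) := fun g =>
    (QCohBase.ores (X.basicOpen_le g.1)).toAlgebra
  have : ∀ g : Set.range r, IsLocalization.Away g.1 Γ(X, X.basicOpen g.1) := fun g =>
    hU.isLocalization_basicOpen g.1
  let j : ∀ g : Set.range r, (Fin n → Γ(X, ⊤)) →ₗ[Γ(X, ⊤)] (Fin n → Γ(X, X.basicOpen g.1)) :=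
    fun g => (Algebra.linearMap _ _).compLeft (Fin n)
  have : ∀ g : Set.range r, IsLocalizedModule (Submonoid.powers g.1) (j g) := fun g =>
    (isLocalizedModule_iff_isBaseChange (Submonoid.powers g.1) Γ(X, X.basicOpen g.1) _).2
      (IsBaseChange.finitePow (Fin n) (IsBaseChange.linearMap Γ(X, ⊤) Γ(X, X.basicOpen g.1)))
  refine Submodule.of_localizationSpan' (Rₚ := fun g : Set.range r => Γ(X, X.basicOpen g.1))
    (Set.range r) hspan j fun g => ?_
  have hg : Module.FinitePresentation Γ(X, X.basicOpen g.1) Γ(F, X.basicOpen g.1) := by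
    obtain ⟨x, hx⟩ := g.2
    rw [← hx]; exact hfp x
  let _ : Module Γ(X, ⊤) Γ(F, X.basicOpen g.1) :=
    Module.compHom _ (QCohBase.ores (X.basicOpen_le g.1))
  let φ : Γ(F, ⊤) →ₗ[Γ(X, ⊤)] Γ(F, X.basicOpen g.1) :=
    { toFun := QCohBase.mres F (X.basicOpen_le g.1)
      map_add' := map_add _
      map_smul' := QCohBase.mres_smul F (X.basicOpen_le g.1) }
  have : IsLocalizedModule (Submonoid.powers g.1) φ := FlatOverBC.isLocalizedModule_mres F hU g.1
  have : IsScalarTower Γ(X, ⊤) Γ(X, X.basicOpen g.1) Γ(F, X.basicOpen g.1) :=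
    .of_algebraMap_smul fun _ _ => rfl
  rw [LinearMap.localized'_ker_eq_ker_localizedMap _ (Submonoid.powers g.1) (j g) φ π]
  exact Module.FinitePresentation.fg_ker _
    (IsLocalizedModule.map_surjective (Submonoid.powers g.1) (j g) φ π hπ)

/-- Quasi-coherent modules on an affine scheme are pulled back from `Spec` of the sections. -/
theorem nonempty_pullback_isoSpec_tilde {X : Scheme.{u}} [IsAffine X] (F : X.Modules) [F.IsQuasicoherent] :
    Nonempty ((Scheme.Modules.pullback X.isoSpec.hom).obj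
      (tilde (ModuleCat.of Γ(X, ⊤) Γ(F, ⊤))) ≅ F) := by
  have hU : IsAffineOpen (⊤ : X.Opens) := isAffineOpen_top X
  have hi : IsIso (F.restrict hU.fromSpec).fromTildeΓ := inferInstance
  let e : tilde (ModuleCat.of Γ(X, ⊤) Γ(F, ⊤)) ≅ F.restrict hU.fromSpec :=
    (tilde.functor Γ(X, ⊤)).mapIso (LinearEquiv.toModuleIso (QCohBase.sectionsEquiv F hU)).symm ≪≫
      @asIso _ _ _ _ (F.restrict hU.fromSpec).fromTildeΓ hi
  exact ⟨(Scheme.Modules.pullback X.isoSpec.hom).mapIso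
      (e ≪≫ (Scheme.Modules.restrictFunctorIsoPullback hU.fromSpec).app F) ≪≫
    (Scheme.Modules.pullbackComp X.isoSpec.hom hU.fromSpec).app F ≪≫
    (Scheme.Modules.pullbackCongr (by rw [IsAffineOpen.fromSpec_top, Iso.hom_inv_id])).app F ≪≫
    (Scheme.Modules.pullbackId (X := X)).app F⟩

/-- Flat modules give flat sheaves on spectra. -/
theorem isFlatOver_tilde {R S : CommRingCat.{u}} (φ : R ⟶ S) (N : ModuleCat.{u} S)
    (h : letI := Module.compHom N φ.hom; Module.Flat R N) :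
    FlatMod.IsFlatOver (Spec.map φ) (tilde N) := by
  intro x
  refine FlatOver.isFlatOverAt_of_flat (Spec.map φ) (tilde N) (U := ⊤) (V := ⊤) le_top
    (isAffineOpen_top _) (isAffineOpen_top _) x trivial ?_
  letI := FlatOver.baseModule (Spec.map φ) (tilde N) (U := ⊤) (V := ⊤) le_top
  letI := Module.compHom N φ.hom
  let σ := (Scheme.ΓSpecIso R).inv.hom
  letI : Algebra R Γ(Spec R, ⊤) := σ.toAlgebra
  have hσ : Function.Bijective σ :=
    (Scheme.ΓSpecIso R).symm.commRingCatIsoToRingEquiv.bijective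
  haveI : IsLocalization (⊥ : Submonoid R) Γ(Spec R, ⊤) := by
    refine (isLocalization_iff _ _).2 ⟨fun y => ?_, fun z => ?_, fun {x y} h => ⟨1, ?_⟩⟩
    · rw [show (y : R) = 1 from Submonoid.mem_bot.1 y.2]; simp
    · obtain ⟨a, rfl⟩ := hσ.2 z
      exact ⟨⟨a, 1⟩, by simp [RingHom.algebraMap_toAlgebra]⟩
    · rw [hσ.1 h]
  letI : Module R Γ(tilde N, ⊤) := Module.compHom _ σ
  haveI : IsScalarTower R Γ(Spec R, ⊤) Γ(tilde N, ⊤) := .of_algebraMap_smul fun _ _ => rfl
  refine (Module.flat_iff_of_isLocalization Γ(Spec R, ⊤) (⊥ : Submonoid R) Γ(tilde N, ⊤)).2 ?_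
  let e : N ≃ₗ[R] Γ(tilde N, ⊤) :=
    { toFun := fun m => (tilde.isoTop N).hom m
      invFun := fun m => (tilde.isoTop N).inv m
      left_inv := fun m => (tilde.isoTop N).hom_inv_id_apply m
      right_inv := fun m => (tilde.isoTop N).inv_hom_id_apply m
      map_add' := map_add _
      map_smul' := fun a m => by
        show (tilde.isoTop N).hom.hom (φ.hom a • m) = _
        rw [map_smul]
        show ((Spec S).presheaf.map (Opens.leTop (⊤ : (Spec S).Opens)).op
            ((Scheme.ΓSpecIso S).inv (φ.hom a))) • (show Γ(tilde N, ⊤) from (tilde.isoTop N).hom.hom m) =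
          (Spec.map φ).appLE ⊤ ⊤ le_top ((Scheme.ΓSpecIso R).inv a) •
            (show Γ(tilde N, ⊤) from (tilde.isoTop N).hom.hom m)
        have h' := ConcreteCategory.congr_hom (Scheme.ΓSpecIso_inv_naturality φ) a
        simp only [ConcreteCategory.comp_apply] at h'
        rw [show (Opens.leTop (⊤ : (Spec S).Opens)).op = 𝟙 _ from rfl, (Spec S).presheaf.map_id]
        refine congrArg (· • (show Γ(tilde N, ⊤) from (tilde.isoTop N).hom.hom m)) (h'.trans ?_)
        exact ConcreteCategory.congr_hom (Scheme.Hom.app_eq_appLE (Spec.map φ) (U := ⊤)) _ }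
  haveI : Module.Flat R N := h
  exact Module.Flat.of_linearEquiv e.symm

/-- An algebraic model of a module gives a model of the sheaf. -/
theorem exists_scheme_model {X S : Scheme.{u}} (f : X ⟶ S) [IsAffine X] [IsAffine S]
    (F : X.Modules) [F.IsQuasicoherent] (R₀ S₀ : Type u) [CommRing R₀] [CommRing S₀] [Algebra R₀ S₀]
    [Algebra.FiniteType ℤ R₀] [Algebra.FiniteType R₀ S₀] [Algebra R₀ Γ(S, ⊤)] [Algebra S₀ Γ(X, ⊤)]
    [Algebra R₀ Γ(X, ⊤)] [IsScalarTower R₀ S₀ Γ(X, ⊤)]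
    (hR : letI := f.appTop.hom.toAlgebra; IsScalarTower R₀ Γ(S, ⊤) Γ(X, ⊤))
    (hpo : letI := f.appTop.hom.toAlgebra; haveI := hR; Algebra.IsPushout R₀ Γ(S, ⊤) S₀ Γ(X, ⊤))
    (M₀ : Type u) [AddCommGroup M₀] [Module S₀ M₀] [Module.Finite S₀ M₀] [Module S₀ Γ(F, ⊤)]
    [IsScalarTower S₀ Γ(X, ⊤) Γ(F, ⊤)] (b : M₀ →ₗ[S₀] Γ(F, ⊤)) (hb : IsBaseChange Γ(X, ⊤) b) :
    ∃ (X₀ T₀ : Scheme.{u}) (f₀ : X₀ ⟶ T₀) (g : S ⟶ T₀) (g' : X ⟶ X₀), IsAffine X₀ ∧ IsAffine T₀ ∧
      IsPullback g' f f₀ g ∧ Algebra.FiniteType ℤ Γ(T₀, ⊤) ∧ LocallyOfFiniteType f₀ ∧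
      ∃ F₀ : X₀.Modules, Coh.IsCoh F₀ ∧
        ((letI : Module R₀ M₀ := Module.compHom M₀ (algebraMap R₀ S₀); Module.Flat R₀ M₀) →
          FlatMod.IsFlatOver f₀ F₀) ∧
        Nonempty ((Scheme.Modules.pullback g').obj F₀ ≅ F) := by
  letI := f.appTop.hom.toAlgebra
  haveI := hR
  have hpb := (isPullback_SpecMap_of_isPushout _ _ _ _
    (haveI := hpo; CommRingCat.isPushout_of_isPushout R₀ Γ(S, ⊤) S₀ Γ(X, ⊤))).flip
  refine ⟨Spec (.of S₀), Spec (.of R₀), Spec.map (CommRingCat.ofHom (algebraMap R₀ S₀)),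
    S.isoSpec.hom ≫ Spec.map (CommRingCat.ofHom (algebraMap R₀ Γ(S, ⊤))),
    X.isoSpec.hom ≫ Spec.map (CommRingCat.ofHom (algebraMap S₀ Γ(X, ⊤))),
    inferInstance, inferInstance, ?_, ?_, ?_, tilde (ModuleCat.of (CommRingCat.of S₀) M₀),
    QCohBase.isCoh_tilde _, fun hfl => isFlatOver_tilde _ _ hfl, ?_⟩
  · exact (IsPullback.of_horiz_isIso ⟨(Scheme.isoSpec_hom_naturality f)⟩).paste_horiz hpb
  · exact (inferInstance : Algebra.FiniteType ℤ R₀).equiv
      (Scheme.ΓSpecIso (.of R₀)).symm.commRingCatIsoToRingEquiv.toIntAlgEquiv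
  · rw [HasRingHomProperty.Spec_iff (P := @LocallyOfFiniteType)]
    exact RingHom.finiteType_algebraMap.mpr inferInstance
  · obtain ⟨e₁⟩ := QCohAffine.nonempty_extendScalars_iso M₀ (algebraMap S₀ Γ(X, ⊤)) rfl
    obtain ⟨e₂⟩ := nonempty_pullback_isoSpec_tilde F
    let φ : CommRingCat.of S₀ ⟶ Γ(X, ⊤) := CommRingCat.ofHom (algebraMap S₀ Γ(X, ⊤))
    exact ⟨((Scheme.Modules.pullbackComp X.isoSpec.hom (Spec.map φ)).app _).symm ≪≫
      (Scheme.Modules.pullback X.isoSpec.hom).mapIso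
        ((QCohAffine.pullbackTildeIso φ).app (ModuleCat.of (CommRingCat.of S₀) M₀) ≪≫
          (tilde.functor Γ(X, ⊤)).mapIso (e₁ ≪≫ LinearEquiv.toModuleIso hb.equiv)) ≪≫ e₂⟩

end Groth.Agent.ModModelScheme
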